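import Mathlib

/-!
Finitely presented, smooth and étale algebras over a filtered colimit of rings come from a stage.
-/

set_option autoImplicit false
universe u w

open TensorProduct

namespace Groth.Agent.RingModel

/-- a ring of finite type over `ℤ` maps to a stage of a filtered system -/
theorem exists_ringHom_lift {A : Type u} [CommRing A] {J : Type w} (G : J → Type u) [∀ j, CommRing (G j)]
    (ψ : ∀ j, G j →+* A) (hlift : ∀ s : Finset A, ∃ j, ∀ a ∈ s, ∃ y, ψ j y = a)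
    (heq : ∀ j (y : G j), ψ j y = 0 → ∃ (k : J) (h : G j →+* G k), (ψ k).comp h = ψ j ∧ h y = 0)
    {R₀ : Type u} [CommRing R₀] [Algebra.FiniteType ℤ R₀] (φ : R₀ →+* A) :
    ∃ (j : J) (χ : R₀ →+* G j), (ψ j).comp χ = φ := by
  classical
  obtain ⟨n, π, hπ⟩ := Algebra.FiniteType.iff_quotient_mvPolynomial''.1 (inferInstance : Algebra.FiniteType ℤ R₀)
  obtain ⟨j, hj⟩ := hlift (Finset.univ.image fun i => φ (π (MvPolynomial.X i)))
  choose y hy using fun i => hj _ (Finset.mem_image_of_mem (fun i => φ (π (MvPolynomial.X i))) (Finset.mem_univ i))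
  let χ₀ : MvPolynomial (Fin n) ℤ →+* G j := MvPolynomial.eval₂Hom (Int.castRingHom _) y
  have hχ₀ : (ψ j).comp χ₀ = φ.comp π.toRingHom :=
    MvPolynomial.ringHom_ext (fun r => by simp) (fun i => by simp [χ₀, hy])
  obtain ⟨K, hK⟩ := (inferInstance : IsNoetherian (MvPolynomial (Fin n) ℤ) (MvPolynomial (Fin n) ℤ)).noetherian
    (RingHom.ker π.toRingHom)
  have key : ∀ T : Finset (MvPolynomial (Fin n) ℤ), (∀ t ∈ T, π t = 0) →
      ∃ (k : J) (χ : MvPolynomial (Fin n) ℤ →+* G k), (ψ k).comp χ = φ.comp π.toRingHom ∧ ∀ t ∈ T, χ t = 0 := by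
    intro T hT
    induction T using Finset.induction with
    | empty => exact ⟨j, χ₀, hχ₀, by simp⟩
    | insert t T _ ih =>
      obtain ⟨k, χ, h1, h2⟩ := ih fun z hz => hT z (Finset.mem_insert_of_mem hz)
      obtain ⟨l, h, h3, h4⟩ := heq k (χ t) (by
        rw [← RingHom.comp_apply, h1]; simp [hT t (Finset.mem_insert_self _ _)])
      refine ⟨l, h.comp χ, by rw [← RingHom.comp_assoc, h3, h1], fun z hz => ?_⟩
      rcases Finset.mem_insert.1 hz with rfl | hz
      · exact h4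
      · simp [h2 z hz]
  obtain ⟨k, χ, h1, h2⟩ := key K fun t ht => (hK ▸ Submodule.subset_span ht : t ∈ RingHom.ker π.toRingHom)
  have hker : RingHom.ker π.toRingHom ≤ RingHom.ker χ := hK ▸ Submodule.span_le.2 h2
  refine ⟨k, RingHom.liftOfSurjective π.toRingHom hπ ⟨χ, hker⟩, ?_⟩
  refine (RingHom.cancel_right hπ).1 ?_
  rw [RingHom.comp_assoc, RingHom.liftOfSurjective_comp, h1]

section cofinite

variable {A B : Type u} [CommRing A] [CommRing B] [Algebra A B]

/-- a finitely presented algebra has a model over a finitely generated subring -/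
theorem exists_subalgebra_fp [Algebra.FinitePresentation A B] :
    ∃ (A₀ : Subalgebra ℤ A) (B₀ : Type u) (_ : CommRing B₀) (_ : Algebra A₀ B₀),
      A₀.FG ∧ Algebra.FinitePresentation A₀ B₀ ∧ Nonempty (B ≃ₐ[A] A ⊗[A₀] B₀) := by
  let P := Algebra.Presentation.ofFinitePresentation A B
  have : P.HasCoeffs P.core := ⟨fun x hx => ⟨⟨x, P.coeffs_subset_core hx⟩, rfl⟩⟩
  exact ⟨P.core, P.ModelOfHasCoeffs P.core, inferInstance, inferInstance,
    ⟨P.finite_coeffs.toFinset, by rw [Set.Finite.coe_toFinset]; rfl⟩, inferInstance,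
    ⟨(P.tensorModelOfHasCoeffsEquiv P.core).symm⟩⟩

end cofinite

/-- transfer of a model over a finitely generated subring to a stage -/
theorem exists_stage_model (Q : ∀ (R S : Type u) [CommRing R] [CommRing S] [Algebra R S], Prop)
    (hQbc : ∀ (R S T : Type u) [CommRing R] [CommRing S] [CommRing T] [Algebra R S] [Algebra R T],
      Q R S → Q T (T ⊗[R] S))
    {A B : Type u} [CommRing A] [CommRing B] [Algebra A B]
    (hmodel : ∃ (A₀ : Subalgebra ℤ A) (B₀ : Type u) (_ : CommRing B₀) (_ : Algebra A₀ B₀),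
      A₀.FG ∧ Q A₀ B₀ ∧ Nonempty (B ≃ₐ[A] A ⊗[A₀] B₀))
    {J : Type w} (G : J → Type u) [∀ j, CommRing (G j)] (ψ : ∀ j, G j →+* A)
    (hlift : ∀ s : Finset A, ∃ j, ∀ a ∈ s, ∃ y, ψ j y = a)
    (heq : ∀ j (y : G j), ψ j y = 0 → ∃ (k : J) (h : G j →+* G k), (ψ k).comp h = ψ j ∧ h y = 0) :
    ∃ (i : J) (Bi : Type u) (_ : CommRing Bi) (_ : Algebra (G i) Bi),
      Q (G i) Bi ∧ (letI : Algebra (G i) A := (ψ i).toAlgebra; Nonempty (B ≃ₐ[A] (A ⊗[G i] Bi))) := by
  obtain ⟨A₀, B₀, _, _, hfg, hQ, ⟨e⟩⟩ := hmodel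
  have : Algebra.FiniteType ℤ A₀ := (Subalgebra.fg_iff_finiteType A₀).1 hfg
  obtain ⟨i, χ, hχ⟩ := exists_ringHom_lift G ψ hlift heq (algebraMap A₀ A)
  letI : Algebra A₀ (G i) := χ.toAlgebra
  letI : Algebra (G i) A := (ψ i).toAlgebra
  haveI : IsScalarTower A₀ (G i) A := IsScalarTower.of_algebraMap_eq fun x => (congr($hχ x)).symm
  exact ⟨i, G i ⊗[A₀] B₀, inferInstance, inferInstance, hQbc _ _ _ hQ,
    ⟨e.trans (Algebra.TensorProduct.cancelBaseChange A₀ (G i) A A B₀).symm⟩⟩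

end Groth.Agent.RingModel
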