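import Groth.Agent.RingModel.Basic

set_option autoImplicit false
universe u

open CategoryTheory Limits

namespace Groth.Agent.RingModel

variable {I : Type u} [SmallCategory I] [IsFiltered I] (D : I ⥤ CommRingCat.{u}) (c : Cocone D)

theorem hlift_colimit (hc : IsColimit c) (s : Finset c.pt) : ∃ j, ∀ a ∈ s, ∃ y, (c.ι.app j).hom y = a := by
  classical
  induction s using Finset.induction with
  | empty => exact ⟨IsFiltered.nonempty.some, by simp⟩
  | insert a s _ ih =>
    obtain ⟨j, hj⟩ := ih
    obtain ⟨k, y, hy⟩ := Concrete.isColimit_exists_rep D hc a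
    refine ⟨IsFiltered.max j k, fun b hb => ?_⟩
    rcases Finset.mem_insert.1 hb with rfl | hb
    · exact ⟨(D.map (IsFiltered.rightToMax j k)).hom y, (congr($(c.w (IsFiltered.rightToMax j k)) y)).trans hy⟩
    · obtain ⟨z, hz⟩ := hj b hb
      exact ⟨(D.map (IsFiltered.leftToMax j k)).hom z, (congr($(c.w (IsFiltered.leftToMax j k)) z)).trans hz⟩

theorem heq_colimit (hc : IsColimit c) (j : I) (y : D.obj j) (hy : (c.ι.app j).hom y = 0) :
    ∃ (k : I) (h : D.obj j →+* D.obj k), (c.ι.app k).hom.comp h = (c.ι.app j).hom ∧ h y = 0 := by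
  obtain ⟨k, f, g, hfg⟩ := Concrete.isColimit_exists_of_rep_eq D hc y (0 : D.obj j) (by
    rw [map_zero]; exact hy)
  refine ⟨k, (D.map f).hom, congrArg CommRingCat.Hom.hom (c.w f), ?_⟩
  exact hfg.trans (map_zero _)

end Groth.Agent.RingModel
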